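import Groth.Agent.H19.Koszul.TorChi
import Groth.Agent.Lib.Koszul.Tensor
import Mathlib.Algebra.Category.ModuleCat.ChangeOfRings

/-!
# Tor against a ring in which a Koszul-regular sequence stays Koszul-regular
-/

set_option autoImplicit false
set_option backward.isDefEq.respectTransparency false
set_option linter.style.haveILetI false

universe u

namespace Groth.Agent.H15.KoszulTor.Basic

open CategoryTheory CategoryTheory.Limits MonoidalCategory Groth.Agent.Lib HomologicalComplex
open Groth.Agent.H19.Koszul.TorChi CochainComplex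
open Groth.Agent.Lib.Koszul.SmulCone Groth.Agent.Lib.Koszul.Basic

variable {A : Type u} [CommRing A]

theorem tor_iso (l : List A) (hl : LCI.IsKoszulRegularSeq A l) (N : ModuleCat.{u} A) (n : ℕ) :
    Nonempty (((CategoryTheory.Tor (ModuleCat.{u} A) n).obj (ModuleCat.of A (A ⧸ Ideal.ofList l))).obj N ≅
      (DRing.tensorCx (_root_.Koszul.koszul A l) N).homology (-(n : ℤ))) := by
  let K := _root_.Koszul.koszul A l
  obtain ⟨e⟩ := nonempty_homology_zero (M := ModuleCat.of A A) l
  let e0 : K.homology 0 ≅ ModuleCat.of A (A ⧸ Ideal.ofList l) :=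
    koszulHomologyIso l 0 ≪≫ LinearEquiv.toModuleIso
      (e.trans (Submodule.quotEquivOfEq _ _ (by rw [Ideal.smul_top_eq_map]; simp)))
  have h1 := isZero_X l 1 one_pos
  have hex : ∀ m, (kc l).ExactAt (m + 1) := fun m => by
    obtain ⟨i⟩ := homology_restriction_iso K h1 (m + 1)
    rw [HomologicalComplex.exactAt_iff_isZero_homology]
    exact (hl _ (by omega)).of_iso i
  obtain ⟨i0⟩ := homology_restriction_iso K h1 0
  let q : (kc l).opcycles 0 ≅ ModuleCat.of A (A ⧸ Ideal.ofList l) :=
    ((kc l).isoHomologyι 0 0 (by simp) (by simp)).symm ≪≫ i0 ≪≫ eqToIso (by simp [K]) ≪≫ e0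
  let ε : (kc l).X 0 ⟶ ModuleCat.of A (A ⧸ Ideal.ofList l) := (kc l).pOpcycles 0 ≫ q.hom
  have w : (kc l).d 1 0 ≫ ε = 0 := by
    simp only [ε]
    rw [HomologicalComplex.d_pOpcycles_assoc, zero_comp]
  have hexact : (ShortComplex.mk _ _ w).Exact := by
    have h0 : (ShortComplex.mk ((kc l).d 1 0) ((kc l).pOpcycles 0) ((kc l).d_pOpcycles 1 0)).Exact :=
      ShortComplex.exact_of_g_is_cokernel _ ((kc l).opcyclesIsCokernel 1 0 (by simp))
    let eS : ShortComplex.mk ((kc l).d 1 0) ((kc l).pOpcycles 0) ((kc l).d_pOpcycles 1 0) ≅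
        ShortComplex.mk _ _ w :=
      ShortComplex.isoMk (Iso.refl _) (Iso.refl _) q
        (by simp only [Iso.refl_hom]; rw [Category.id_comp, Category.comp_id])
        (by simp only [Iso.refl_hom]; rw [Category.id_comp])
    exact (ShortComplex.exact_iff_of_iso eS).1 h0
  let T := Groth.Agent.Lib.Tor.Balance.torIsoOfFlatResolution (kc l) (fun i => flat_X l _) hex ε w
    (epi_comp _ _) hexact n
  have hz : IsZero ((DRing.tensorCx K N).X 1) := Functor.map_isZero (tensorRight N) h1
  obtain ⟨i⟩ := homology_restriction_iso (DRing.tensorCx K N) hz n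
  exact ⟨(T.app N).symm ≪≫ i⟩

variable {A' : Type u} [CommRing A'] [Algebra A A']

/-- Restriction of scalars to the base. -/
noncomputable abbrev res : ModuleCat.{u} A' ⥤ ModuleCat.{u} A := ModuleCat.restrictScalars (algebraMap A A')

theorem resCx_smul (C : CochainComplex (ModuleCat.{u} A') ℤ) (x : A) :
    ((res (A := A)).mapHomologicalComplex (ComplexShape.up ℤ)).map (algebraMap A A' x • 𝟙 C) =
      x • 𝟙 (((res (A := A)).mapHomologicalComplex _).obj C) := by
  ext i : 1
  ext y
  rfl

/-- Restriction of scalars commutes with Koszul complexes. -/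
noncomputable def resKoszulOnIso (C : CochainComplex (ModuleCat.{u} A') ℤ) :
    ∀ l : List A, ((res (A := A)).mapHomologicalComplex (ComplexShape.up ℤ)).obj (koszulOn C (l.map (algebraMap A A'))) ≅
      koszulOn (((res (A := A)).mapHomologicalComplex _).obj C) l
  | [] => Iso.refl _
  | f :: l =>
    mappingCone.mapHomologicalComplexIso (algebraMap A A' f • 𝟙 (koszulOn C (l.map (algebraMap A A')))) (res (A := A)) ≪≫
      eqToIso (congrArg (fun g => mappingCone g) (resCx_smul _ f)) ≪≫
        smulConeIso f (resKoszulOnIso C l)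

theorem isZero_tor_quotient (l : List A) (hl : LCI.IsKoszulRegularSeq A l)
    (hl' : LCI.IsKoszulRegularSeq A' (l.map (algebraMap A A'))) (n : ℕ) (hn : 1 ≤ n) :
    IsZero (((CategoryTheory.Tor (ModuleCat.{u} A) n).obj (ModuleCat.of A (A ⧸ Ideal.ofList l))).obj (ModuleCat.of A A')) := by
  obtain ⟨e⟩ := tor_iso l hl (ModuleCat.of A A') n
  refine IsZero.of_iso ?_ (e ≪≫ Groth.Agent.Lib.Koszul.Tensor.tensorHomologyIso l _ _)
  have hz : IsZero ((koszulOn (sgl (ModuleCat.of A' A')) (l.map (algebraMap A A'))).homology (-(n : ℤ))) :=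
    (hl' _ (by omega)).of_iso (koszulHomologyIso _ _).symm
  have hz' := Functor.map_isZero (res (A := A)) hz
  let M1 : ModuleCat.{u} A := (res (A := A) (A' := A')).obj (ModuleCat.of A' A')
  let f : M1 →ₗ[A] A' :=
    { toFun := fun y => y
      map_add' := fun _ _ => rfl
      map_smul' := fun c y => by
        change algebraMap A A' c * (show A' from y) = c • (show A' from y)
        exact (Algebra.smul_def c (show A' from y)).symm }
  let em : (res (A := A) (A' := A')).obj (ModuleCat.of A' A') ≅ ModuleCat.of A A' :=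
    (LinearEquiv.ofBijective f ⟨fun _ _ h => h, fun y => ⟨y, rfl⟩⟩).toModuleIso
  let E : ((res (A := A)).mapHomologicalComplex (ComplexShape.up ℤ)).obj (koszulOn (sgl (ModuleCat.of A' A')) (l.map (algebraMap A A')))
      ≅ koszulOn (sgl (ModuleCat.of A A')) l :=
    resKoszulOnIso _ l ≪≫ Groth.Agent.Lib.Koszul.Tensor.tensorCxIso.go l ((HomologicalComplex.singleMapHomologicalComplex (res (A := A)) _ 0).app _ ≪≫
      (HomologicalComplex.single _ _ 0).mapIso em)
  exact hz'.of_iso ((HomologicalComplex.homologyFunctor _ _ (-(n : ℤ))).mapIso E.symm ≪≫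
    ((koszulOn (sgl (ModuleCat.of A' A')) (l.map (algebraMap A A'))).sc (-(n : ℤ))).mapHomologyIso (res (A := A)))

end Groth.Agent.H15.KoszulTor.Basic
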